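import Mathlib.AlgebraicGeometry.FunctionField
import Mathlib.AlgebraicGeometry.Morphisms.Basic
import Mathlib.RingTheory.Valuation.ValuationRing

/-!
# A valuation ring of the function field is dominated by a single point of a birational source
-/

set_option autoImplicit false
set_option linter.style.haveILetI false
set_option backward.isDefEq.respectTransparency false

universe u

open CategoryTheory AlgebraicGeometry TopologicalSpace

namespace Groth.Agent.DVRTensor

theorem bijective_of_valuationRing {A B K L : Type u} [CommRing A] [IsDomain A] [ValuationRing A]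
    [CommRing B] [Field K] [Field L] [Algebra A K] [IsFractionRing A K]
    (φ : A →+* B) [IsLocalHom φ] (ι : B →+* L) (hι : Function.Injective ι) (ψ : K →+* L)
    (hψ : Function.Surjective ψ) (hcomm : ∀ a, ι (φ a) = ψ (algebraMap A K a)) : Function.Bijective φ := by
  refine ⟨fun a b h => IsFractionRing.injective A K (ψ.injective ?_), fun x => ?_⟩
  · rw [← hcomm, ← hcomm, h]
  obtain ⟨k, hk⟩ := hψ (ι x)
  rcases ValuationRing.isInteger_or_isInteger A k with ⟨a, ha⟩ | ⟨a, ha⟩
  · exact ⟨a, hι (by rw [hcomm, ha, hk])⟩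
  · rcases eq_or_ne k 0 with rfl | hk0
    · exact ⟨0, hι (by rw [map_zero, map_zero, ← hk, map_zero])⟩
    have h1 : φ a * x = 1 := hι (by
      rw [map_mul, hcomm, ha, ← hk, ← map_mul, inv_mul_cancel₀ hk0, map_one, map_one])
    obtain ⟨b, hb⟩ := (IsUnit.of_mul_eq_one (M := B) x h1)
    obtain ⟨c, rfl⟩ := (isUnit_of_map_unit φ a (IsUnit.of_mul_eq_one x h1))
    exact ⟨↑c⁻¹, (IsUnit.of_mul_eq_one x h1).mul_left_cancel (by rw [h1, ← map_mul, Units.mul_inv, map_one])⟩

/-- Two comparable points with the same local ring are equal. -/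
theorem eq_of_isIso_stalkSpecializes {X : Scheme.{u}} {a b : X} (h : a ⤳ b)
    (hiso : Function.Bijective (X.presheaf.stalkSpecializes h).hom) : a = b := by
  obtain ⟨U, hU, hb, -⟩ := exists_isAffineOpen_mem_and_subset (X := X) (x := b) (U := ⊤) trivial
  have ha : a ∈ U := h.mem_open U.2 hb
  have key : ∀ g : Γ(X, U), a ∈ X.basicOpen g ↔ b ∈ X.basicOpen g := fun g => by
    rw [X.mem_basicOpen g a ha, X.mem_basicOpen g b hb]
    have e : (X.presheaf.stalkSpecializes h).hom ((X.presheaf.germ U b hb).hom g) = (X.presheaf.germ U a ha).hom g :=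
      TopCat.Presheaf.germ_stalkSpecializes_apply X.presheaf hb h g
    rw [← e]
    exact ⟨fun hu => (MulEquiv.isUnit_map (RingEquiv.ofBijective _ hiso)).1 hu,
      fun hu => hu.map _⟩
  have h2 : hU.primeIdealOf ⟨a, ha⟩ = hU.primeIdealOf ⟨b, hb⟩ := by
    apply PrimeSpectrum.ext
    ext g
    have h3 : ∀ (c : X) (hc : c ∈ U), g ∈ (hU.primeIdealOf ⟨c, hc⟩).asIdeal ↔ c ∉ X.basicOpen g := fun c hc => by
      have h4 : hU.primeIdealOf ⟨c, hc⟩ ∈ hU.fromSpec ⁻¹ᵁ X.basicOpen g ↔ c ∈ X.basicOpen g := by
        show hU.fromSpec (hU.primeIdealOf ⟨c, hc⟩) ∈ X.basicOpen g ↔ _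
        rw [IsAffineOpen.fromSpec_primeIdealOf]
      rw [hU.fromSpec_preimage_basicOpen] at h4
      rw [← h4]
      exact not_not.symm
    rw [h3, h3, key]
  have h5 := congrArg hU.fromSpec h2
  rwa [IsAffineOpen.fromSpec_primeIdealOf, IsAffineOpen.fromSpec_primeIdealOf] at h5

/-- Over a point with valuation ring local ring, a birational source has no two comparable points. -/
theorem eq_of_specializes_of_valuationRing {X Y : Scheme.{u}} [IsIntegral X] [IsIntegral Y] (f : X ⟶ Y)
    (hgen : f (genericPoint X) = genericPoint Y) [IsIso (f.stalkMap (genericPoint X))]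
    {a b : X} (h : a ⤳ b) (hab : f a = f b) [ValuationRing (Y.presheaf.stalk (f b))] : a = b := by
  have key : ∀ (c : X) [ValuationRing (Y.presheaf.stalk (f c))], Function.Bijective (f.stalkMap c).hom := by
    intro c _
    have hs : genericPoint X ⤳ c := genericPoint_specializes c
    have hsY : f (genericPoint X) ⤳ f c := hs.map f.continuous
    letI : Field (Y.presheaf.stalk (f (genericPoint X))) :=
      (hgen ▸ (Field.toIsField Y.functionField) : IsField (Y.presheaf.stalk (f (genericPoint X)))).toField
    letI : Algebra (Y.presheaf.stalk (f c)) (Y.presheaf.stalk (f (genericPoint X))) :=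
      (Y.presheaf.stalkSpecializes hsY).hom.toAlgebra
    haveI : IsFractionRing (Y.presheaf.stalk (f c)) (Y.presheaf.stalk (f (genericPoint X))) := by
      have : ∀ (ζ : Y) (hζ : ζ = genericPoint Y) (hsp : ζ ⤳ f c),
          @IsFractionRing (Y.presheaf.stalk (f c)) _ (Y.presheaf.stalk ζ) _
            (Y.presheaf.stalkSpecializes hsp).hom.toAlgebra := by
        rintro ζ rfl hsp
        exact (inferInstance : IsFractionRing (Y.presheaf.stalk (f c)) Y.functionField)
      exact this _ hgen hsY
    refine bijective_of_valuationRing (f.stalkMap c).hom (X.presheaf.stalkSpecializes hs).hom ?_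
      (f.stalkMap (genericPoint X)).hom (ConcreteCategory.bijective_of_isIso (f.stalkMap (genericPoint X))).2 ?_
    · exact IsFractionRing.injective (X.presheaf.stalk c) X.functionField
    · exact fun a => Scheme.Hom.stalkSpecializes_stalkMap_apply f (genericPoint X) c hs a |>.symm
  have hb := key b
  haveI : ValuationRing (Y.presheaf.stalk (f a)) := hab ▸ inferInstance
  have ha := key a
  refine eq_of_isIso_stalkSpecializes h ?_
  have hcomp : ∀ z, (X.presheaf.stalkSpecializes h).hom ((f.stalkMap b).hom z) =
      (f.stalkMap a).hom ((Y.presheaf.stalkSpecializes (h.map f.continuous)).hom z) :=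
    fun z => (Scheme.Hom.stalkSpecializes_stalkMap_apply f a b h z).symm
  haveI : IsIso (Y.presheaf.stalkSpecializes (h.map f.continuous)) :=
    (Y.presheaf.stalkCongr (.of_eq hab.symm)).isIso_hom
  have hY := ConcreteCategory.bijective_of_isIso (Y.presheaf.stalkSpecializes (h.map f.continuous))
  have h6 : Function.Bijective ((X.presheaf.stalkSpecializes h).hom ∘ (f.stalkMap b).hom) := by
    rw [show (X.presheaf.stalkSpecializes h).hom ∘ (f.stalkMap b).hom =
      (f.stalkMap a).hom ∘ (Y.presheaf.stalkSpecializes (h.map f.continuous)).hom from funext hcomp]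
    exact ha.comp hY
  exact (Function.Bijective.of_comp_iff _ hb).1 h6

end Groth.Agent.DVRTensor
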