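import Groth.Agent.S3417
import Groth.Agent.S2501
import Groth.Agent.S2535
import Groth.Agent.Lib.VB17.Setup
import Groth.Agent.Lib.KrullAkizuki.DVR

/-!
# Integrality of finite base changes of the generic fibre of a family with reduced connected closed fibre
-/

set_option autoImplicit false
set_option linter.style.haveILetI false

universe u

open CategoryTheory CategoryTheory.Limits AlgebraicGeometry IsLocalRing

namespace Groth.Agent.DVRTensor

variable {R : Type u} [CommRing R] [IsDomain R] [IsDiscreteValuationRing R]

/-- A discrete valuation ring of a finite extension dominating `R`. -/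
theorem exists_dvr (L : Type u) [Field L] [Algebra R L] [Algebra (FractionRing R) L]
    [IsScalarTower R (FractionRing R) L] [FiniteDimensional (FractionRing R) L] :
    ∃ (R' : Type u) (_ : CommRing R') (_ : IsDomain R') (_ : IsDiscreteValuationRing R')
      (φ : R →+* R') (ψ : R' →+* L), Function.Injective ψ ∧ IsLocalHom φ ∧
        ψ.comp φ = algebraMap R L ∧ @IsFractionRing R' _ L _ ψ.toAlgebra := by
  obtain ⟨V, hV, hR, hm⟩ := KrullAkizuki.exists_dvr_of_height_eq_one R (FractionRing R) L
    (maximalIdeal R) (by
      have h := IsLocalRing.maximalIdeal_height_eq_ringKrullDim (R := R)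
      rw [IsPrincipalIdealRing.ringKrullDim_eq_one R (IsDiscreteValuationRing.not_isField R)] at h
      exact_mod_cast h)
  refine ⟨V, inferInstance, inferInstance, hV, RingHom.codRestrict (algebraMap R L) V hR, V.subtype,
    Subtype.val_injective, ?_, rfl, ?_⟩
  · constructor
    intro a ha
    by_contra h
    exact ((mem_maximalIdeal _).1 ((V.valuation_lt_one_iff ⟨algebraMap R L a, hR a⟩).2
      (hm a ((mem_maximalIdeal a).2 h)))) ha
  · exact (inferInstance : IsFractionRing V L)

variable {X : Scheme.{u}} (f : X ⟶ Spec (CommRingCat.of R)) [IsProper f] [Flat f]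
variable {Xs : Scheme.{u}} {gs : Xs ⟶ X} {fs : Xs ⟶ Spec (CommRingCat.of (ResidueField R))}

theorem geometrically_of_isAlgClosed {k : Type u} [Field k] [IsAlgClosed k] {Z : Scheme.{u}}
    (g : Z ⟶ Spec (CommRingCat.of k)) [ConnectedSpace Z] [IsReduced Z] :
    GeometricallyConnected g ∧ GeometricallyReduced g := by
  refine ⟨S2501.result g, ?_⟩
  haveI : IsReduced (FBase.bc g k) := by
    show IsReduced (pullback g (Spec.map (CommRingCat.ofHom (algebraMap k k))))
    haveI : IsIso (Spec.map (CommRingCat.ofHom (algebraMap k k))) := by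
      rw [Algebra.algebraMap_self]
      show IsIso (Spec.map (𝟙 (CommRingCat.of k)))
      infer_instance
    haveI : IsIso (pullback.fst g (Spec.map (CommRingCat.ofHom (algebraMap k k)))) :=
      MorphismProperty.pullback_fst (P := MorphismProperty.isomorphisms Scheme.{u}) _ _ (MorphismProperty.isomorphisms.infer_property _)
    haveI : IsOpenImmersion (pullback.fst g (Spec.map (CommRingCat.ofHom (algebraMap k k)))) := IsOpenImmersion.of_isIso _
    exact isReduced_of_isOpenImmersion (pullback.fst g (Spec.map (CommRingCat.ofHom (algebraMap k k))))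
  exact S2535.result (Ω := k) g

include f in
/-- Base change of the generic fibre to a finite extension is preconnected and nonempty. -/
theorem connected_generic [IsAlgClosed (ResidueField R)]
    (hs : IsPullback gs fs f (Spec.map (CommRingCat.ofHom (residue R))))
    [ConnectedSpace Xs] [IsReduced Xs]
    (L : Type u) [Field L] [Algebra R L] [Algebra (FractionRing R) L]
    [IsScalarTower R (FractionRing R) L] [FiniteDimensional (FractionRing R) L] :
    ConnectedSpace ↥(pullback f (Spec.map (CommRingCat.ofHom (algebraMap R L)))) := by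
  obtain ⟨hc, hr⟩ := geometrically_of_isAlgClosed fs
  obtain ⟨R', _, _, _, φ, ψ, hψ, hφ, hψφ, hfrac⟩ := exists_dvr (R := R) L
  letI : Algebra R' L := ψ.toAlgebra
  haveI : IsFractionRing R' L := hfrac
  let t : Spec (CommRingCat.of R') ⟶ Spec (CommRingCat.of R) := Spec.map (CommRingCat.ofHom φ)
  let g : pullback f t ⟶ Spec (CommRingCat.of R') := pullback.snd f t
  let a : Spec (CommRingCat.of R') := closedPoint R'
  let j : Spec (CommRingCat.of L) ⟶ Spec (CommRingCat.of R') :=
    Spec.map (CommRingCat.ofHom (algebraMap R' L))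
  haveI : IsPreimmersion j := IsPreimmersion.of_isLocalization (nonZeroDivisors R')
  -- the closed fibre
  let s := (Spec (CommRingCat.of R')).fromSpecResidueField a
  let κ := (Spec (CommRingCat.of R')).residueField a
  let τ : R →+* κ := (Spec.preimage (s ≫ t)).hom
  have hτ : Spec.map (CommRingCat.ofHom τ) = s ≫ t := Spec.map_preimage _
  have hker : ∀ r ∈ maximalIdeal R, τ r = 0 := fun r hr0 => by
    let z : Spec κ := closedPoint κ
    have h1 : (s ≫ t) z = closedPoint R := by
      rw [Scheme.Hom.comp_apply, Scheme.fromSpecResidueField_apply]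
      exact IsLocalRing.comap_closedPoint φ
    rw [← hτ] at h1
    have h2 : r ∈ (Spec.map (CommRingCat.ofHom τ) z).asIdeal := by rw [h1]; exact hr0
    have h3 : τ r ∈ maximalIdeal κ := h2
    simpa [IsLocalRing.maximalIdeal_eq_bot] using h3
  let w : Spec κ ⟶ Spec (CommRingCat.of (ResidueField R)) :=
    Spec.map (CommRingCat.ofHom (Ideal.Quotient.lift (maximalIdeal R) τ hker))
  have hw : w ≫ Spec.map (CommRingCat.ofHom (residue R)) = s ≫ t := by
    simp only [w, ← hτ]
    refine (Spec.map_comp _ _).symm.trans ?_
    rfl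
  have hbig : IsPullback (g.fiberι a ≫ pullback.fst f t) (g.fiberToSpecResidueField a) f
      (w ≫ Spec.map (CommRingCat.ofHom (residue R))) := by
    rw [hw]
    exact IsPullback.paste_horiz (IsPullback.of_hasPullback g s) (IsPullback.of_hasPullback f t)
  let h := hs.lift (g.fiberι a ≫ pullback.fst f t) (g.fiberToSpecResidueField a ≫ w)
    (by rw [hbig.w, Category.assoc])
  have hsq : IsPullback h (g.fiberToSpecResidueField a) fs w :=
    IsPullback.of_right (by rw [hs.lift_fst]; exact hbig) (hs.lift_snd _ _ _) hs
  haveI : IsReduced (g.fiber a) := GeometricallyReduced.geometrically_isReduced _ _ _ hsq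
  haveI : ConnectedSpace (g.fiber a) := GeometricallyConnected.geometrically_connectedSpace _ _ _ hsq
  have hopen : IsOpenMap g := g.isOpenMap
  have hclosedMap : IsClosedMap g := g.isClosedMap
  have hfib : _root_.IsConnected (g ⁻¹' {a}) := by
    rw [← g.range_fiberι a]
    exact isConnected_range (g.fiberι a).continuous
  haveI : PreconnectedSpace ↥(pullback f t) := by
    refine ⟨isPreconnected_iff_subset_of_disjoint.2 fun U V hU hV hcov hdisj => ?_⟩
    rw [Set.univ_inter] at hdisj
    have hUV : U = Vᶜ := Set.Subset.antisymm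
      (fun x hx hx' => (hdisj.le ⟨hx, hx'⟩ : x ∈ (∅ : Set _)))
      (fun x hx => (hcov (Set.mem_univ x)).resolve_right hx)
    have key : ∀ Z : Set ↥(pullback f t), IsClosed Z → Z.Nonempty → (Z ∩ g ⁻¹' {a}).Nonempty := by
      rintro Z hZ ⟨x, hx⟩
      obtain ⟨y, hy, hya⟩ := ((specializes_closedPoint (g x)).mem_closed (hclosedMap Z hZ) ⟨x, hx, rfl⟩ :
        a ∈ g '' Z)
      exact ⟨y, hy, hya⟩
    rcases Set.eq_empty_or_nonempty U with hU0 | hUne
    · exact Or.inr fun x _ => (hcov (Set.mem_univ x)).resolve_left (by simp [hU0])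
    rcases Set.eq_empty_or_nonempty V with hV0 | hVne
    · exact Or.inl fun x _ => (hcov (Set.mem_univ x)).resolve_right (by simp [hV0])
    exfalso
    have hUc : IsClosed U := by rw [hUV]; exact hV.isClosed_compl
    have hVc : IsClosed V := by rw [show V = Uᶜ by rw [hUV, compl_compl]]; exact hU.isClosed_compl
    obtain ⟨x, hx⟩ := key U hUc hUne
    obtain ⟨y, hy⟩ := key V hVc hVne
    obtain ⟨z, -, hz⟩ := hfib.isPreconnected U V hU hV (fun z _ => hcov (Set.mem_univ z))
      ⟨x, hx.2, hx.1⟩ ⟨y, hy.2, hy.1⟩
    rw [hdisj] at hz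
    exact hz
  let b : Spec (CommRingCat.of R') := j (closedPoint L)
  have hb0 : b.asIdeal = ⊥ := by
    show Ideal.comap (algebraMap R' L) (maximalIdeal L) = ⊥
    rw [IsLocalRing.maximalIdeal_eq_bot, ← RingHom.ker_eq_comap_bot,
      (RingHom.injective_iff_ker_eq_bot _).1 (IsFractionRing.injective R' L)]
  have hb : ∀ z : ↥(Spec (CommRingCat.of R')), b ⤳ z := fun z =>
    (PrimeSpectrum.le_iff_specializes b z).1 (show b.asIdeal ≤ z.asIdeal by rw [hb0]; exact bot_le)
  haveI := S3417.result R' g hopen a b ((PrimeSpectrum.isClosed_singleton_iff_isMaximal a).2 (maximalIdeal.isMaximal R')) hb inferInstance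
  let gj := pullback.fst g j
  have hrg : Set.range gj = g ⁻¹' {b} := by
    rw [Scheme.Pullback.range_fst]
    congr 1
    exact Set.eq_singleton_iff_unique_mem.2 ⟨⟨_, rfl⟩, by rintro _ ⟨z, rfl⟩; exact congrArg j (Subsingleton.elim z _)⟩
  haveI : Nonempty ↥(pullback g j) := by
    obtain ⟨x, hx⟩ := hfib.nonempty
    have : b ∈ Set.range g := (hb a).mem_open hopen.isOpen_range ⟨x, hx⟩
    obtain ⟨y, hy⟩ := this
    obtain ⟨z, -⟩ : y ∈ Set.range gj := by rw [hrg]; exact hy
    exact ⟨z⟩
  haveI : ConnectedSpace ↥(pullback g j) := by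
    haveI : PreconnectedSpace ↥(pullback g j) := by
      refine ⟨(gj.isEmbedding.isInducing.isPreconnected_image).1 ?_⟩
      rw [Set.image_univ, hrg, ← g.range_fiberι b]
      exact isPreconnected_range (g.fiberι b).continuous
    exact ⟨inferInstance⟩
  have hjt : Spec.map (CommRingCat.ofHom (algebraMap R L)) = j ≫ t := by
    rw [← Spec.map_comp, ← hψφ]
    rfl
  rw [hjt]
  exact (pullbackLeftPullbackSndIso f t j).hom.homeomorph.surjective.connectedSpace (pullbackLeftPullbackSndIso f t j).hom.continuous

include f in
/-- Base change of the smooth generic fibre to a finite extension is integral. -/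
theorem isIntegral_generic [IsAlgClosed (ResidueField R)]
    (hs : IsPullback gs fs f (Spec.map (CommRingCat.ofHom (residue R))))
    [ConnectedSpace Xs] [IsReduced Xs]
    {XK : Scheme.{u}} {gK : XK ⟶ X} {fK : XK ⟶ Spec (CommRingCat.of (FractionRing R))}
    (hK : IsPullback gK fK f (Spec.map (CommRingCat.ofHom (algebraMap R (FractionRing R)))))
    [Smooth fK]
    (L : Type u) [Field L] [Algebra R L] [Algebra (FractionRing R) L]
    [IsScalarTower R (FractionRing R) L] [FiniteDimensional (FractionRing R) L] :
    IsIntegral (pullback f (Spec.map (CommRingCat.ofHom (algebraMap R L)))) := by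
  haveI := connected_generic f hs L
  let lK : Spec (CommRingCat.of L) ⟶ Spec (CommRingCat.of (FractionRing R)) :=
    Spec.map (CommRingCat.ofHom (algebraMap (FractionRing R) L))
  have hl : Spec.map (CommRingCat.ofHom (algebraMap R L)) =
      lK ≫ Spec.map (CommRingCat.ofHom (algebraMap R (FractionRing R))) := by
    rw [← Spec.map_comp, IsScalarTower.algebraMap_eq R (FractionRing R) L]
    rfl
  have hbig : IsPullback (pullback.fst f (Spec.map (CommRingCat.ofHom (algebraMap R L))))
      (pullback.snd f (Spec.map (CommRingCat.ofHom (algebraMap R L)))) f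
      (lK ≫ Spec.map (CommRingCat.ofHom (algebraMap R (FractionRing R)))) := by
    rw [← hl]; exact IsPullback.of_hasPullback _ _
  let q := pullback.snd f (Spec.map (CommRingCat.ofHom (algebraMap R L)))
  let h := hK.lift (pullback.fst f (Spec.map (CommRingCat.ofHom (algebraMap R L)))) (q ≫ lK)
    (by rw [hbig.w, Category.assoc])
  have hsq : IsPullback h q fK lK :=
    IsPullback.of_right (by rw [hK.lift_fst]; exact hbig) (hK.lift_snd _ _ _) hK
  haveI : Smooth q := MorphismProperty.of_isPullback hsq inferInstance
  haveI : CompactSpace ↥(pullback f (Spec.map (CommRingCat.ofHom (algebraMap R L)))) :=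
    QuasiCompact.compactSpace_of_compactSpace q
  haveI := LocallyOfFiniteType.isLocallyNoetherian q
  haveI : IsNoetherian (pullback f (Spec.map (CommRingCat.ofHom (algebraMap R L)))) := {}
  exact VB17.isIntegral_of_connected fun x => SmoothReg17.isDomain_stalk q x

end Groth.Agent.DVRTensor
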