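import Groth.Agent.Lib.DVRTensor.Conn
import Groth.Agent.Lib.ArInter.Geometric
import Groth.Agent.Lib.IndexMult.Fibre
import Groth.Agent.Lib.TorsLift22.Etale

/-!
# Tensor products of the local ring at a component of the closed fibre with field extensions
-/

set_option autoImplicit false
set_option linter.style.haveILetI false

universe u

open CategoryTheory CategoryTheory.Limits AlgebraicGeometry IsLocalRing TensorProduct

namespace Groth.Agent.DVRTensor

variable {R : Type u} [CommRing R] [IsDomain R] [IsDiscreteValuationRing R]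

section Algebra

variable (L : Type u) [CommRing L] [Algebra R L] {A B : Type u} [CommRing A] [CommRing B]
  [Algebra R A] [Algebra R B] [Algebra A B] [IsScalarTower R A B]
  (S : Submonoid A) [IsLocalization S B]

omit [IsDomain R] [IsDiscreteValuationRing R] in
theorem exists_den (x : L ⊗[R] B) : ∃ s ∈ S, ∃ a : L ⊗[R] A,
    x * Algebra.TensorProduct.includeRight (algebraMap A B s) =
      Algebra.TensorProduct.map (AlgHom.id R L) (IsScalarTower.toAlgHom R A B) a := by
  induction x with
  | zero => exact ⟨1, S.one_mem, 0, by simp⟩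
  | tmul l b =>
    obtain ⟨a, s, rfl⟩ := IsLocalization.exists_mk'_eq S b
    exact ⟨s, s.2, l ⊗ₜ a, by simp [Algebra.TensorProduct.tmul_mul_tmul]⟩
  | add x y hx hy =>
    obtain ⟨s, hs, a, ha⟩ := hx
    obtain ⟨t, ht, b, hb⟩ := hy
    refine ⟨s * t, S.mul_mem hs ht,
      a * Algebra.TensorProduct.includeRight t + b * Algebra.TensorProduct.includeRight s, ?_⟩
    simp only [map_add, map_mul, add_mul, ← ha, ← hb]
    simp only [Algebra.TensorProduct.includeRight_apply, Algebra.TensorProduct.map_tmul,
      AlgHom.coe_id, id_eq, IsScalarTower.coe_toAlgHom']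
    ring

end Algebra

/-- The tensor product with a flat localisation of a domain stays a domain. -/
theorem isDomain_tensor_localization (L : Type u) [Field L] [Algebra R L]
    (hL : Function.Injective (algebraMap R L)) {A B : Type u} [CommRing A] [CommRing B]
    [Algebra R A] [Algebra R B] [Algebra A B] [IsScalarTower R A B] [Module.Flat R A] [Module.Flat R B]
    (S : Submonoid A) [IsLocalization S B] [Nontrivial B] [IsDomain (L ⊗[R] A)] :
    IsDomain (L ⊗[R] B) := by
  have hinjA : Function.Injective (Algebra.TensorProduct.includeRight : A →ₐ[R] L ⊗[R] A) :=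
    Algebra.TensorProduct.includeRight_injective hL
  haveI : Nontrivial (L ⊗[R] B) :=
    (Algebra.TensorProduct.includeRight_injective (A := L) (B := B) hL).nontrivial
  haveI : Nontrivial A := (algebraMap A B).domain_nontrivial
  have hS : S ≤ nonZeroDivisors A := fun s hs => by
    haveI : IsDomain A := hinjA.isDomain
    refine mem_nonZeroDivisors_of_ne_zero ?_
    intro h
    have := IsLocalization.map_units B (⟨s, hs⟩ : S)
    rw [show algebraMap A B s = 0 by rw [h, map_zero]] at this
    exact not_isUnit_zero this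
  haveI : Module.Flat R L := by
    haveI : Module.IsTorsionFree R L := Module.isTorsionFree_iff_algebraMap_injective.2 hL
    infer_instance
  have hι : Function.Injective
      (Algebra.TensorProduct.map (AlgHom.id R L) (IsScalarTower.toAlgHom R A B)) :=
    Module.Flat.lTensor_preserves_injective_linearMap (M := L) (IsScalarTower.toAlgHom R A B).toLinearMap
      (IsLocalization.injective B hS)
  suffices h : NoZeroDivisors (L ⊗[R] B) from NoZeroDivisors.to_isDomain (L ⊗[R] B)
  refine ⟨fun {x y} hxy => ?_⟩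
  obtain ⟨s, hs, a, ha⟩ := exists_den L S x
  obtain ⟨t, ht, b, hb⟩ := exists_den L S y
  have hu : ∀ {v : A}, v ∈ S → IsUnit (Algebra.TensorProduct.includeRight (algebraMap A B v) : L ⊗[R] B) :=
    fun {v} hv => (IsLocalization.map_units B (⟨v, hv⟩ : S)).map _
  have : Algebra.TensorProduct.map (AlgHom.id R L) (IsScalarTower.toAlgHom R A B) (a * b) = 0 := by
    rw [map_mul, ← ha, ← hb, mul_mul_mul_comm, hxy, zero_mul]
  rcases mul_eq_zero.1 (hι (this.trans (map_zero _).symm)) with rfl | rfl
  · left
    rw [map_zero] at ha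
    exact (hu hs).mul_left_eq_zero.1 ha
  · right
    rw [map_zero] at hb
    exact (hu ht).mul_left_eq_zero.1 hb

/-- The generic fibre of a DVR extension is a field. -/
theorem isField_fractionRing_tensor {B : Type u} [CommRing B] [IsDomain B] [IsDiscreteValuationRing B]
    [Algebra R B] {π : R} (hB : maximalIdeal B = Ideal.span {algebraMap R B π})
    (hRB : Function.Injective (algebraMap R B)) [Module.Flat R B] :
    IsField (FractionRing R ⊗[R] B) := by
  let K := FractionRing R
  have hπ0 : π ≠ 0 := by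
    rintro rfl
    exact IsDiscreteValuationRing.not_a_field B (by rw [hB, map_zero, Ideal.span_singleton_eq_bot.2 rfl])
  haveI : Nontrivial (K ⊗[R] B) :=
    (Algebra.TensorProduct.includeRight_injective (A := K) (B := B) (IsFractionRing.injective R K)).nontrivial
  let ι : B →ₐ[R] K ⊗[R] B := Algebra.TensorProduct.includeRight
  have hπu : IsUnit (ι (algebraMap R B π)) := by
    rw [AlgHom.commutes, IsScalarTower.algebraMap_apply R K (K ⊗[R] B)]
    exact (IsLocalization.map_units K (⟨π, mem_nonZeroDivisors_of_ne_zero hπ0⟩ : nonZeroDivisors R)).map _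
  have hirr : Irreducible (algebraMap R B π) :=
    (IsDiscreteValuationRing.irreducible_iff_uniformizer _).2 hB
  have hunit : ∀ b : B, b ≠ 0 → IsUnit (ι b) := fun b hb => by
    obtain ⟨n, v, rfl⟩ := IsDiscreteValuationRing.eq_unit_mul_pow_irreducible hb hirr
    rw [map_mul, map_pow]
    exact (v.isUnit.map ι).mul (hπu.pow n)
  refine ⟨exists_pair_ne _, mul_comm, fun {x} hx => ?_⟩
  have key : ∃ s : R, s ≠ 0 ∧ ∃ b : B, x * ι (algebraMap R B s) = ι b := by
    clear hx
    induction x with
    | zero => exact ⟨1, one_ne_zero, 0, by simp⟩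
    | tmul l b =>
      obtain ⟨r, s, rfl⟩ := IsLocalization.exists_mk'_eq (nonZeroDivisors R) l
      refine ⟨s, nonZeroDivisors.ne_zero s.2, r • b, ?_⟩
      show IsLocalization.mk' K r s ⊗ₜ[R] b * ((1 : K) ⊗ₜ[R] algebraMap R B s) = (1 : K) ⊗ₜ[R] (r • b)
      rw [Algebra.TensorProduct.tmul_mul_tmul, mul_one, mul_comm b, ← Algebra.smul_def, ← TensorProduct.smul_tmul,
        Algebra.smul_def, mul_comm, IsLocalization.mk'_spec, Algebra.algebraMap_eq_smul_one, TensorProduct.smul_tmul]
    | add x y hx hy =>
      obtain ⟨s, hs, a, ha⟩ := hx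
      obtain ⟨t, ht, b, hb⟩ := hy
      refine ⟨s * t, mul_ne_zero hs ht, a * algebraMap R B t + b * algebraMap R B s, ?_⟩
      simp only [map_add, map_mul, add_mul, ← ha, ← hb]
      ring
  obtain ⟨s, hs, b, hb⟩ := key
  have hsu : IsUnit (ι (algebraMap R B s)) := hunit _ (by simpa using hRB.ne hs)
  have hb0 : b ≠ 0 := by
    rintro rfl
    rw [map_zero] at hb
    exact hx (hsu.mul_left_eq_zero.1 hb)
  exact isUnit_iff_exists_inv.1 (isUnit_of_mul_isUnit_left (hb ▸ hunit b hb0))

/-- A domain `L ⊗ B` with `L` algebraic over the fraction field is a field. -/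
theorem isField_tensor (L : Type u) [Field L] [Algebra R L] [Algebra (FractionRing R) L]
    [IsScalarTower R (FractionRing R) L] [FiniteDimensional (FractionRing R) L]
    {B : Type u} [CommRing B] [Algebra R B] (hKB : IsField (FractionRing R ⊗[R] B))
    [IsDomain (L ⊗[R] B)] : IsField (L ⊗[R] B) := by
  let K := FractionRing R
  let j : K ⊗[R] B →ₐ[R] L ⊗[R] B :=
    Algebra.TensorProduct.map (IsScalarTower.toAlgHom R K L) (AlgHom.id R B)
  letI : Algebra (K ⊗[R] B) (L ⊗[R] B) := j.toAlgebra
  have hconst : ∀ l : L, IsIntegral (K ⊗[R] B) (Algebra.TensorProduct.includeLeft (S := R) l : L ⊗[R] B) := fun l => by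
    obtain ⟨p, hp, hpl⟩ := Algebra.IsIntegral.isIntegral (R := K) l
    refine ⟨p.map (algebraMap K (K ⊗[R] B)), hp.map _, ?_⟩
    rw [Polynomial.eval₂_map]
    have : (algebraMap (K ⊗[R] B) (L ⊗[R] B)).comp (algebraMap K (K ⊗[R] B)) =
        (Algebra.TensorProduct.includeLeft (S := R) : L →ₐ[R] L ⊗[R] B).toRingHom.comp (algebraMap K L) := by
      refine RingHom.ext fun c => ?_
      show j (c ⊗ₜ 1) = (algebraMap K L c) ⊗ₜ 1
      rfl
    rw [this]
    exact (Polynomial.hom_eval₂ p (algebraMap K L) (Algebra.TensorProduct.includeLeft (S := R) : L →ₐ[R] L ⊗[R] B).toRingHom l).symm.trans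
      ((congrArg _ hpl).trans (map_zero _))
  haveI : Algebra.IsIntegral (K ⊗[R] B) (L ⊗[R] B) := ⟨fun x => by
    induction x with
    | zero => exact isIntegral_zero
    | tmul l b =>
      have : l ⊗ₜ[R] b = (Algebra.TensorProduct.includeLeft (S := R) l : L ⊗[R] B) *
          algebraMap (K ⊗[R] B) (L ⊗[R] B) (1 ⊗ₜ b) := by
        show _ = (l ⊗ₜ[R] (1 : B)) * j (1 ⊗ₜ b)
        simp [j, Algebra.TensorProduct.tmul_mul_tmul]
      rw [this]
      exact (hconst l).mul isIntegral_algebraMap
    | add x y hx hy => exact hx.add hy⟩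
  exact isField_of_isIntegral_of_isField' hKB

section Scheme

variable {X : Scheme.{u}} (f : X ⟶ Spec (CommRingCat.of R))

/-- The tensor product of the sections of an affine open with `L` is a domain when the base change is integral. -/
theorem isDomain_sections_tensor {A : Type u} [CommRing A] [Algebra R A]
    (j0 : Spec (CommRingCat.of A) ⟶ X) [IsOpenImmersion j0]
    (hj0 : j0 ≫ f = Spec.map (CommRingCat.ofHom (algebraMap R A)))
    (L : Type u) [CommRing L] [Algebra R L]
    [IsIntegral (pullback f (Spec.map (CommRingCat.ofHom (algebraMap R L))))]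
    [Nontrivial (L ⊗[R] A)] : IsDomain (L ⊗[R] A) := by
  let t := Spec.map (CommRingCat.ofHom (algebraMap R L))
  let e : Spec (CommRingCat.of (L ⊗[R] A)) ≅ pullback j0 (pullback.fst f t) :=
    (pullbackSpecIso R L A).symm ≪≫ pullbackSymmetry _ _ ≪≫ pullback.congrHom hj0.symm rfl ≪≫
      (pullbackRightPullbackFstIso f t j0).symm
  let m : Spec (CommRingCat.of (L ⊗[R] A)) ⟶ pullback f t := e.hom ≫ pullback.snd j0 (pullback.fst f t)
  haveI : Nonempty ↥(Spec (CommRingCat.of (L ⊗[R] A))) := inferInstanceAs (Nonempty (PrimeSpectrum (L ⊗[R] A)))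
  haveI : IsIntegral (Spec (CommRingCat.of (L ⊗[R] A))) := isIntegral_of_isOpenImmersion m
  exact (affine_isIntegral_iff (CommRingCat.of (L ⊗[R] A))).1 inferInstance

theorem exists_chart [IsProper f] [Flat f] {Xs : Scheme.{u}} {gs : Xs ⟶ X}
    {fs : Xs ⟶ Spec (CommRingCat.of (ResidueField R))}
    (hs : IsPullback gs fs f (Spec.map (CommRingCat.ofHom (residue R))))
    [IsReduced Xs] (ξ : Xs) (hξ : closure ({ξ} : Set Xs) ∈ irreducibleComponents Xs)
    (B : Type u) [CommRing B] [IsDomain B] [IsDiscreteValuationRing B] [Algebra R B]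
    (e : X.presheaf.stalk (gs.base ξ) ≅ CommRingCat.of B)
    (he : e.hom.hom.comp ((X.presheaf.germ ⊤ (gs.base ξ) trivial).hom.comp (Coh.toGlobal f)) =
      algebraMap R B) {π : R} (hπ : Irreducible π) :
    maximalIdeal B = Ideal.span {algebraMap R B π} ∧
    ∃ (A : Type u) (_ : CommRing A) (_ : Algebra R A) (_ : Algebra A B) (_ : IsScalarTower R A B)
      (P : Ideal A) (_ : P.IsPrime) (j0 : Spec (CommRingCat.of A) ⟶ X) (_ : IsOpenImmersion j0),
      Module.Flat R A ∧ IsLocalization.AtPrime B P ∧
        j0 ≫ f = Spec.map (CommRingCat.ofHom (algebraMap R A)) := by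
  constructor
  · have hmax : ∀ y : Xs, y ⤳ ξ → y = ξ := fun y hy => by
      have h1 : closure ({ξ} : Set Xs) ⊆ closure {y} :=
        closure_minimal (Set.singleton_subset_iff.2 (specializes_iff_mem_closure.1 hy)) isClosed_closure
      have h2 := hξ.2 isIrreducible_singleton.closure h1
      exact hy.antisymm (specializes_iff_mem_closure.2 (h2 (subset_closure rfl))) |>.eq
    have hF := TorsLift22.isField_stalk_of_maximal ξ hmax
    let w := hs.isoPullback
    have hw : w.hom ≫ pullback.fst f (Spec.map (CommRingCat.ofHom (residue R))) = gs := hs.isoPullback_hom_fst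
    have key : ∀ (g : Xs ⟶ X), w.hom ≫ pullback.fst f (Spec.map (CommRingCat.ofHom (residue R))) = g →
        RingHom.ker (g.stalkMap ξ).hom = Ideal.span {Models.stalkHom R (Over.mk f) (g ξ) π} := by
      rintro g rfl
      rw [Scheme.Hom.stalkMap_comp]
      exact (RingHom.ker_comp_of_injective _ (ConcreteCategory.bijective_of_isIso (w.hom.stalkMap ξ)).1).trans
        (ArInter.ker_stalkMap_fst_fibre (X := Over.mk f) hπ (w.hom ξ))
    haveI : IsClosedImmersion gs := MorphismProperty.of_isPullback (P := @IsClosedImmersion) hs.flip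
      (IsClosedImmersion.spec_of_surjective _ residue_surjective)
    have hmk : (RingHom.ker (gs.stalkMap ξ).hom).IsMaximal := by
      letI := hF.toField
      exact RingHom.ker_isMaximal_of_surjective _ (SurjectiveOnStalks.stalkMap_surjective gs ξ)
    let ε : X.presheaf.stalk (gs.base ξ) ≃+* B := e.commRingCatIsoToRingEquiv
    have h1 := Ideal.map_isMaximal_of_equiv ε (p := RingHom.ker (gs.stalkMap ξ).hom) (hp := hmk)
    rw [key gs hw, Ideal.map_span, Set.image_singleton] at h1
    rw [← eq_maximalIdeal h1, ← RingHom.congr_fun he π]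
    rfl
  · obtain ⟨U, hU, hx⟩ := DivDesc12.exists_affine (gs ξ)
    let A : Type u := Γ(X, U)
    let φ : R →+* A := ((Scheme.ΓSpecIso (CommRingCat.of R)).inv ≫ f.appLE ⊤ U le_top).hom
    letI : Algebra R A := φ.toAlgebra
    let ψ : A →+* B := e.hom.hom.comp (X.presheaf.germ U (gs ξ) hx).hom
    letI : Algebra A B := ψ.toAlgebra
    haveI : IsScalarTower R A B := IsScalarTower.of_algebraMap_eq' (by
      rw [← he]
      refine RingHom.ext fun r => ?_
      show e.hom.hom (X.presheaf.germ ⊤ (gs ξ) trivial (Coh.toGlobal f r)) =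
        e.hom.hom (X.presheaf.germ U (gs ξ) hx (f.appLE ⊤ U le_top ((Scheme.ΓSpecIso (CommRingCat.of R)).inv r)))
      refine congrArg e.hom.hom ?_
      exact ArInter.stalkHom_eq_germ (X := Over.mk f) U (gs ξ) hx r)
    letI : Algebra A (X.presheaf.stalk (gs ξ)) := X.presheaf.algebra_section_stalk (⟨gs ξ, hx⟩ : U)
    haveI : IsLocalization.AtPrime (X.presheaf.stalk (gs ξ)) (hU.primeIdealOf ⟨gs ξ, hx⟩).asIdeal :=
      hU.isLocalization_stalk ⟨gs ξ, hx⟩
    refine ⟨A, inferInstance, inferInstance, inferInstance, inferInstance,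
      (hU.primeIdealOf ⟨gs ξ, hx⟩).asIdeal, inferInstance, hU.fromSpec, inferInstance, ?_, ?_, ?_⟩
    · show φ.Flat
      exact RingHom.Flat.comp (RingHom.Flat.of_bijective (ConcreteCategory.bijective_of_isIso (Scheme.ΓSpecIso (CommRingCat.of R)).inv))
        (f.flat_appLE (isAffineOpen_top _) hU le_top)
    · exact IsLocalization.isLocalization_of_algEquiv _
        ({ e.commRingCatIsoToRingEquiv with commutes' := fun _ => rfl } :
          X.presheaf.stalk (gs ξ) ≃ₐ[A] B)
    · rw [← IsAffineOpen.SpecMap_appLE_fromSpec f (isAffineOpen_top _) hU le_top,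
        IsAffineOpen.fromSpec_top, Scheme.isoSpec_Spec_inv, ← Spec.map_comp]
      rfl

end Scheme

end Groth.Agent.DVRTensor
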