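import Groth.Agent.Lib.DVRTensor.Field
import Mathlib.Algebra.GCDMonoid.IntegrallyClosed
import Mathlib.RingTheory.Polynomial.Content
import Mathlib.RingTheory.Localization.Integral

/-!
# Field and DVR criteria for the tensor product with the local ring at a component
-/

set_option autoImplicit false
set_option linter.style.haveILetI false

universe u

open CategoryTheory CategoryTheory.Limits AlgebraicGeometry IsLocalRing TensorProduct

namespace Groth.Agent.DVRTensor

variable {R : Type u} [CommRing R] [IsDomain R] [IsDiscreteValuationRing R]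

/-- `L ⊗ B` is a field for every finite extension `L`, and `π` is a uniformiser of `B`. -/
theorem isField_finite [IsAlgClosed (ResidueField R)]
    {X : Scheme.{u}} (f : X ⟶ Spec (CommRingCat.of R)) [IsProper f] [Flat f]
    {XK : Scheme.{u}} {gK : XK ⟶ X} {fK : XK ⟶ Spec (CommRingCat.of (FractionRing R))}
    (hK : IsPullback gK fK f (Spec.map (CommRingCat.ofHom (algebraMap R (FractionRing R)))))
    [Smooth fK] {Xs : Scheme.{u}} {gs : Xs ⟶ X} {fs : Xs ⟶ Spec (CommRingCat.of (ResidueField R))}
    (hs : IsPullback gs fs f (Spec.map (CommRingCat.ofHom (residue R))))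
    [ConnectedSpace Xs] [IsReduced Xs] (ξ : Xs) (hξ : closure ({ξ} : Set Xs) ∈ irreducibleComponents Xs)
    (B : Type u) [CommRing B] [IsDomain B] [IsDiscreteValuationRing B] [Algebra R B]
    (e : X.presheaf.stalk (gs.base ξ) ≅ CommRingCat.of B)
    (he : e.hom.hom.comp ((X.presheaf.germ ⊤ (gs.base ξ) trivial).hom.comp (Coh.toGlobal f)) =
      algebraMap R B) {π : R} (hπ : Irreducible π) :
    maximalIdeal B = Ideal.span {algebraMap R B π} ∧ Module.Flat R B ∧
    Function.Injective (algebraMap R B) ∧
    ∀ (L : Type u) [Field L] [Algebra R L] [Algebra (FractionRing R) L]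
      [IsScalarTower R (FractionRing R) L] [FiniteDimensional (FractionRing R) L],
      IsField (L ⊗[R] B) := by
  obtain ⟨hB, A, _, _, _, _, P, _, j0, _, hflat, hloc, hj0⟩ := exists_chart f hs ξ hξ B e he hπ
  haveI := hflat
  haveI : Module.Flat A B := IsLocalization.flat B P.primeCompl
  haveI : Module.Flat R B := Module.Flat.trans R A B
  have hRB : Function.Injective (algebraMap R B) := by
    rw [injective_iff_map_eq_zero]
    intro r hr
    by_contra h
    exact one_ne_zero ((Module.Flat.isSMulRegular_of_nonZeroDivisors (M := B) (mem_nonZeroDivisors_of_ne_zero h))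
      (show r • (1 : B) = r • (0 : B) by rw [smul_zero, Algebra.smul_def, hr, zero_mul]))
  refine ⟨hB, inferInstance, hRB, fun L _ _ _ _ _ => ?_⟩
  have hL : Function.Injective (algebraMap R L) := by
    rw [IsScalarTower.algebraMap_eq R (FractionRing R) L]
    exact (algebraMap (FractionRing R) L).injective.comp (IsFractionRing.injective R _)
  haveI := isIntegral_generic f hs hK L
  haveI : Nontrivial (L ⊗[R] B) :=
    (Algebra.TensorProduct.includeRight_injective (A := L) (B := B) hL).nontrivial
  haveI : Nontrivial (L ⊗[R] A) :=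
    (Algebra.TensorProduct.map (AlgHom.id R L) (IsScalarTower.toAlgHom R A B)).toRingHom.domain_nontrivial
  haveI := isDomain_sections_tensor f j0 hj0 L
  haveI := isDomain_tensor_localization L hL (B := B) P.primeCompl
  exact isField_tensor L (isField_fractionRing_tensor hB hRB)

/-- From all finite extensions to an algebraic extension. -/
theorem isField_algebraic (Ω : Type u) [Field Ω] [Algebra R Ω] [Algebra (FractionRing R) Ω]
    [IsScalarTower R (FractionRing R) Ω] [Algebra.IsAlgebraic (FractionRing R) Ω]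
    (B : Type u) [CommRing B] [Algebra R B] [Nontrivial (Ω ⊗[R] B)]
    (h : ∀ (L : Type u) [Field L] [Algebra R L] [Algebra (FractionRing R) L]
      [IsScalarTower R (FractionRing R) L] [FiniteDimensional (FractionRing R) L],
      IsField (L ⊗[R] B)) : IsField (Ω ⊗[R] B) := by
  let K := FractionRing R
  let mp : ∀ E : IntermediateField K Ω, E ⊗[R] B →ₐ[R] Ω ⊗[R] B := fun E =>
    Algebra.TensorProduct.map (E.val.restrictScalars R) (AlgHom.id R B)
  have hmono : ∀ E F : IntermediateField K Ω, ∀ (hle : E ≤ F) (y : E ⊗[R] B), ∃ z, mp F z = mp E y := by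
    intro E F hle y
    refine ⟨Algebra.TensorProduct.map ((IntermediateField.inclusion hle).restrictScalars R) (AlgHom.id R B) y, ?_⟩
    induction y with
    | zero => simp
    | tmul l b => simp [mp]
    | add a c ha hc => simp only [map_add, ha, hc]
  have key : ∀ x : Ω ⊗[R] B, ∃ E : IntermediateField K Ω, FiniteDimensional K E ∧ ∃ y, mp E y = x := by
    intro x
    induction x with
    | zero => exact ⟨⊥, inferInstance, 0, map_zero _⟩
    | tmul l b =>
      exact ⟨IntermediateField.adjoin K {l},
        IntermediateField.adjoin.finiteDimensional (Algebra.IsIntegral.isIntegral l),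
        ⟨l, IntermediateField.mem_adjoin_simple_self K l⟩ ⊗ₜ b, by simp [mp]⟩
    | add x y hx hy =>
      obtain ⟨E, hE, a, rfl⟩ := hx
      obtain ⟨F, hF, b, rfl⟩ := hy
      haveI := hE; haveI := hF
      obtain ⟨a', ha⟩ := hmono E (E ⊔ F) le_sup_left a
      obtain ⟨b', hb⟩ := hmono F (E ⊔ F) le_sup_right b
      exact ⟨E ⊔ F, inferInstance, a' + b', by rw [map_add, ha, hb]⟩
  refine ⟨exists_pair_ne _, mul_comm, fun {x} hx => ?_⟩
  obtain ⟨E, hE, y, rfl⟩ := key x
  haveI := hE
  obtain ⟨z, hz⟩ := (h E).mul_inv_cancel (a := y) (fun h0 => hx (by rw [h0, map_zero]))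
  exact ⟨mp E z, by rw [← map_mul, hz, map_one]⟩

/-- A DVR inside an algebraic extension dominating a DVR with algebraically closed residue field has the same residue field. -/
theorem exists_residue [IsAlgClosed (ResidueField R)] {R' : Type u} [CommRing R'] [IsDomain R'] [IsLocalRing R'] [Algebra R R']
    [IsLocalHom (algebraMap R R')] (hinj : Function.Injective (algebraMap R R')) (halg : ∀ x : R', IsAlgebraic R x) (x : R') :
    ∃ r : R, x - algebraMap R R' r ∈ maximalIdeal R' := by
  letI := Nonempty.some (inferInstance : Nonempty (NormalizedGCDMonoid R))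
  obtain ⟨p, hp, hpx⟩ := halg x
  rw [p.eq_C_content_mul_primPart, map_mul, Polynomial.aeval_C] at hpx
  have hc : algebraMap R R' p.content ≠ 0 := (map_ne_zero_iff _ hinj).2 (by simpa [Polynomial.content_eq_zero_iff] using hp)
  have hroot := (mul_eq_zero.1 hpx).resolve_left hc
  let q := p.primPart.map (residue R)
  have hq : q ≠ 0 := by
    intro h0
    obtain ⟨π, hπ⟩ := IsDiscreteValuationRing.exists_irreducible R
    refine hπ.not_isUnit (p.isPrimitive_primPart π ((Polynomial.C_dvd_iff_dvd_coeff _ _).2 fun i => ?_))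
    have : p.primPart.coeff i ∈ maximalIdeal R := by
      have h1 : q.coeff i = 0 := by rw [h0]; simp
      rw [Polynomial.coeff_map] at h1
      exact Ideal.Quotient.eq_zero_iff_mem.1 h1
    rwa [(IsDiscreteValuationRing.irreducible_iff_uniformizer π).1 hπ, Ideal.mem_span_singleton] at this
  have hqx : Polynomial.aeval (residue R' x) q = 0 := by
    rw [Polynomial.aeval_def, Polynomial.eval₂_map]
    have : (algebraMap (ResidueField R) (ResidueField R')).comp (residue R) = (residue R').comp (algebraMap R R') := rfl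
    rw [this, ← Polynomial.hom_eval₂, ← Polynomial.aeval_def, hroot, map_zero]
  have hi : _root_.IsIntegral (ResidueField R) (residue R' x) := IsAlgebraic.isIntegral ⟨q, hq, hqx⟩
  obtain ⟨c, hc'⟩ := minpoly.mem_range_of_degree_eq_one (ResidueField R) (residue R' x)
    (IsAlgClosed.degree_eq_one_of_irreducible _ (minpoly.irreducible hi))
  obtain ⟨r, rfl⟩ := residue_surjective c
  refine ⟨r, Ideal.Quotient.eq.1 ?_⟩
  exact hc'.symm

/-- The base change of `B` to a dominating DVR in a finite extension is a DVR. -/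
theorem isDVR_tensor [IsAlgClosed (ResidueField R)] {B : Type u} [CommRing B] [IsDomain B]
    [IsDiscreteValuationRing B] [Algebra R B] [Module.Flat R B] {π : R} (hπ : Irreducible π)
    (hB : maximalIdeal B = Ideal.span {algebraMap R B π})
    {R' : Type u} [CommRing R'] [IsDomain R'] [IsDiscreteValuationRing R'] [Algebra R R']
    [IsLocalHom (algebraMap R R')] (hinj : Function.Injective (algebraMap R R'))
    (halg : ∀ x : R', IsAlgebraic R x)
    {L : Type u} [Field L] [Algebra R' L] [IsFractionRing R' L] [Algebra R L] [IsScalarTower R R' L]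
    (hF : IsField (L ⊗[R] B)) :
    ∃ _ : IsDomain (B ⊗[R] R'), IsDiscreteValuationRing (B ⊗[R] R') := by
  let g : R' ⊗[R] B →ₐ[R] L ⊗[R] B :=
    Algebra.TensorProduct.map (IsScalarTower.toAlgHom R R' L) (AlgHom.id R B)
  let ι : B ⊗[R] R' →ₐ[R] L ⊗[R] B := g.comp (Algebra.TensorProduct.comm R B R').toAlgHom
  have hι : Function.Injective ι :=
    (Module.Flat.rTensor_preserves_injective_linearMap (M := B) (IsScalarTower.toAlgHom R R' L).toLinearMap
      (IsFractionRing.injective R' L)).comp (Algebra.TensorProduct.comm R B R').injective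
  haveI : IsDomain (L ⊗[R] B) := hF.isDomain
  haveI : IsDomain (B ⊗[R] R') := hι.isDomain
  refine ⟨inferInstance, ?_⟩
  obtain ⟨π', hπ'⟩ := IsDiscreteValuationRing.exists_irreducible R'
  have hm' : maximalIdeal R' = Ideal.span {π'} := (IsDiscreteValuationRing.irreducible_iff_uniformizer _).1 hπ'
  let p : B ⊗[R] R' := 1 ⊗ₜ π'
  -- a map to the residue field of `B` killing `p`
  let σ : ResidueField R →+* ResidueField R' := ResidueField.map (algebraMap R R')
  have hσ : Function.Bijective σ := by
    refine ⟨σ.injective, fun y => ?_⟩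
    obtain ⟨x, rfl⟩ := residue_surjective y
    obtain ⟨r, hr⟩ := exists_residue hinj halg x
    exact ⟨residue R r, ((Ideal.Quotient.eq (x := x) (y := algebraMap R R' r)).2 hr).symm⟩
  let ω : ResidueField R →+* ResidueField B := Ideal.Quotient.lift (maximalIdeal R)
    ((residue B).comp (algebraMap R B)) fun r hr => by
      rw [(IsDiscreteValuationRing.irreducible_iff_uniformizer π).1 hπ, Ideal.mem_span_singleton] at hr
      obtain ⟨c, rfl⟩ := hr
      show residue B (algebraMap R B (π * c)) = 0
      rw [residue_eq_zero_iff, map_mul, hB, Ideal.mem_span_singleton]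
      exact dvd_mul_right _ _
  let θ : R' →ₐ[R] ResidueField B :=
    { ω.comp ((RingEquiv.ofBijective σ hσ).symm.toRingHom.comp (residue R')) with
      commutes' := fun r => by
        show ω ((RingEquiv.ofBijective σ hσ).symm (residue R' (algebraMap R R' r))) = residue B (algebraMap R B r)
        rw [show residue R' (algebraMap R R' r) = RingEquiv.ofBijective σ hσ (residue R r) from rfl,
          RingEquiv.symm_apply_apply]
        rfl }
  let χ : B ⊗[R] R' →ₐ[R] ResidueField B :=
    Algebra.TensorProduct.lift (IsScalarTower.toAlgHom R B (ResidueField B)) θ fun _ _ => Commute.all _ _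
  have hχp : χ p = 0 := by
    have h0 : residue R' π' = 0 := (residue_eq_zero_iff _).2 (by rw [hm']; exact Ideal.mem_span_singleton_self _)
    show χ (1 ⊗ₜ π') = 0
    rw [Algebra.TensorProduct.lift_tmul, map_one, one_mul]
    show ω ((RingEquiv.ofBijective σ hσ).symm (residue R' π')) = 0
    rw [h0, map_zero, map_zero]
  have hpu : ¬ IsUnit p := fun h => by
    have := h.map χ
    rw [hχp] at this
    exact not_isUnit_zero this
  have hp0 : p ≠ 0 := fun h => hπ'.ne_zero (IsFractionRing.injective R' L (by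
    have h1 : ι p = 0 := by rw [h, map_zero]
    have h2 : Function.Injective (Algebra.TensorProduct.includeLeft (S := R) : L →ₐ[R] L ⊗[R] B) :=
      (Algebra.TensorProduct.includeLeft (S := R) : L →ₐ[R] L ⊗[R] B).toRingHom.injective
    rw [map_zero]
    exact h2 (h1.trans (map_zero _).symm)))
  -- reduction modulo `p`
  have hdec : ∀ x : B ⊗[R] R', ∃ (b : B) (y : B ⊗[R] R'), x = b ⊗ₜ 1 + p * y := by
    intro x
    induction x with
    | zero => exact ⟨0, 0, by simp⟩
    | tmul b r' =>
      obtain ⟨r, hr⟩ := exists_residue hinj halg r'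
      rw [hm', Ideal.mem_span_singleton] at hr
      obtain ⟨z, hz⟩ := hr
      refine ⟨r • b, b ⊗ₜ z, ?_⟩
      rw [show r' = algebraMap R R' r + π' * z by rw [← hz]; ring, TensorProduct.tmul_add,
        Algebra.algebraMap_eq_smul_one, TensorProduct.tmul_smul, TensorProduct.smul_tmul',
        Algebra.TensorProduct.tmul_mul_tmul, one_mul]
    | add x y hx hy =>
      obtain ⟨a, c, rfl⟩ := hx
      obtain ⟨b, d, rfl⟩ := hy
      exact ⟨a + b, c + d, by rw [TensorProduct.add_tmul]; ring⟩
  have hgen : ∀ z : L ⊗[R] B, ∃ (n : ℕ) (y : B ⊗[R] R'), z * ι p ^ n = ι y := by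
    intro z
    induction z with
    | zero => exact ⟨0, 0, by simp⟩
    | tmul l b =>
      obtain ⟨r', s, rfl⟩ := IsLocalization.exists_mk'_eq (nonZeroDivisors R') l
      obtain ⟨n, v, hv⟩ := IsDiscreteValuationRing.eq_unit_mul_pow_irreducible (nonZeroDivisors.ne_zero s.2) hπ'
      refine ⟨n, b ⊗ₜ (r' * ↑v⁻¹), ?_⟩
      have hιp : ι p = algebraMap R' L π' ⊗ₜ[R] (1 : B) := rfl
      show _ = algebraMap R' L (r' * ↑v⁻¹) ⊗ₜ[R] b
      rw [hιp, Algebra.TensorProduct.tmul_pow, one_pow, Algebra.TensorProduct.tmul_mul_tmul, mul_one, ← map_pow,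
        show π' ^ n = (s : R') * ↑v⁻¹ by rw [hv, mul_comm, ← mul_assoc, Units.inv_mul, one_mul], map_mul, ← mul_assoc,
        IsLocalization.mk'_spec, map_mul]
    | add x y hx hy =>
      obtain ⟨n, a, ha⟩ := hx
      obtain ⟨m, c, hc⟩ := hy
      refine ⟨n + m, a * p ^ m + c * p ^ n, ?_⟩
      rw [map_add, map_mul, map_mul, ← ha, ← hc, map_pow, map_pow]
      ring
  have hπdvd : ∀ b : B, ¬ IsUnit b → p ∣ (b ⊗ₜ[R] (1 : R')) := by
    intro b hb
    have hb' : b ∈ maximalIdeal B := hb
    rw [hB, Ideal.mem_span_singleton] at hb'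
    obtain ⟨c, rfl⟩ := hb'
    have : algebraMap R R' π ∈ maximalIdeal R' := fun h => hπ.not_isUnit (IsUnit.of_map (algebraMap R R') π h)
    rw [hm', Ideal.mem_span_singleton] at this
    obtain ⟨w, hw⟩ := this
    refine ⟨c ⊗ₜ w, ?_⟩
    rw [Algebra.TensorProduct.tmul_mul_tmul, one_mul, ← hw, ← Algebra.smul_def, TensorProduct.smul_tmul,
      Algebra.smul_def, mul_one]
  have hclear : ∀ x : B ⊗[R] R', x ≠ 0 → ∃ (n : ℕ) (y : B ⊗[R] R'), x * y = p ^ n := by
    intro x hx
    obtain ⟨z, hz⟩ := hF.mul_inv_cancel (a := ι x) ((map_ne_zero_iff ι hι).2 hx)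
    obtain ⟨n, y, hy⟩ := hgen z
    exact ⟨n, y, hι (by rw [map_mul, ← hy, ← mul_assoc, hz, one_mul, map_pow])⟩
  have hnu : ∀ x : B ⊗[R] R', ¬ IsUnit x → p ∣ x := by
    intro x hxu
    rcases eq_or_ne x 0 with rfl | hx
    · exact dvd_zero _
    obtain ⟨b, y, rfl⟩ := hdec x
    refine dvd_add (hπdvd b fun hb => ?_) (dvd_mul_right _ _)
    obtain ⟨M, hM, hxM⟩ := exists_max_ideal_of_mem_nonunits hxu
    obtain ⟨n, w, hw⟩ := hclear _ hx
    have hpM : p ∈ M := hM.isPrime.mem_of_pow_mem n (hw ▸ M.mul_mem_right w hxM)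
    exact hM.ne_top (Ideal.eq_top_of_isUnit_mem _
      (by simpa using M.sub_mem hxM (M.mul_mem_right y hpM))
      (hb.map (Algebra.TensorProduct.includeLeft (S := R) : B →ₐ[R] B ⊗[R] R')))
  have hirr : Irreducible p := by
    refine ⟨hpu, fun a c hac => ?_⟩
    by_contra! hh
    obtain ⟨a', rfl⟩ := hnu a hh.1
    obtain ⟨c', rfl⟩ := hnu c hh.2
    exact hpu (IsUnit.of_mul_eq_one (a' * c') (mul_left_cancel₀ hp0 (by rw [mul_one]; linear_combination (-1 : B ⊗[R] R') * hac)))
  refine IsDiscreteValuationRing.ofHasUnitMulPowIrreducibleFactorization ⟨p, hirr, fun {x} hx => ?_⟩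
  obtain ⟨n, y, hxy⟩ := hclear x hx
  clear hx
  induction n generalizing x with
  | zero => exact ⟨0, by rw [pow_zero]; exact (associated_one_iff_isUnit.2 (IsUnit.of_mul_eq_one y (by rw [hxy, pow_zero]))).symm⟩
  | succ n ih =>
    by_cases hxu : IsUnit x
    · exact ⟨0, by rw [pow_zero]; exact (associated_one_iff_isUnit.2 hxu).symm⟩
    obtain ⟨x', rfl⟩ := hnu x hxu
    obtain ⟨m, hm⟩ := ih (x := x') (mul_left_cancel₀ hp0 (by rw [← mul_assoc, hxy, pow_succ']))
    exact ⟨m + 1, by rw [pow_succ']; exact hm.mul_left p⟩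

end Groth.Agent.DVRTensor
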